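import Groth.Agent.H2.FormalColimMain

/-!
# Quotients by powers of an ideal in a short exact sequence, and sections on basic opens
-/

set_option autoImplicit false
universe u

open CategoryTheory AlgebraicGeometry TopologicalSpace Opposite
open Groth.Agent.H2.SectLim
open Groth.Agent.H20.TildeSections (D res toU res_toU res_res ext_of_generators isLocalizedModule_toU
  eq_zero_of_le_basicOpen)
open Formal2 (quotPow quotPowπ quotPowTrans)

namespace Groth.Agent.Lib.FormalMid

variable {A : Type u} [CommRing A] (I : Ideal A)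
variable {M M' M'' : Type u} [AddCommGroup M] [Module A M] [AddCommGroup M'] [Module A M']
  [AddCommGroup M''] [Module A M'']

/-- The induced map on quotients. -/
noncomputable def bar (f : M' →ₗ[A] M) (n : ℕ) : quotPow A I M' n →ₗ[A] quotPow A I M n :=
  Submodule.mapQ _ _ f <| by
    rw [← Submodule.map_le_iff_le_comap, Submodule.map_smul'']
    exact Submodule.smul_mono le_rfl le_top

theorem bar_mk (f : M' →ₗ[A] M) (n : ℕ) (m : M') :
    bar I f n (quotPowπ A I M' n m) = quotPowπ A I M n (f m) := rfl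

theorem bar_π (f : M' →ₗ[A] M) (n : ℕ) :
    bar I f n ∘ₗ quotPowπ A I M' n = quotPowπ A I M n ∘ₗ f := rfl

theorem bar_tr (f : M' →ₗ[A] M) (n : ℕ) :
    bar I f n ∘ₗ quotPowTrans A I M' n = quotPowTrans A I M n ∘ₗ bar I f (n + 1) :=
  LinearMap.ext fun z => by
    obtain ⟨m, rfl⟩ := Submodule.Quotient.mk_surjective _ z
    rfl

/-- The transition over several steps. -/
noncomputable def pr (M : Type u) [AddCommGroup M] [Module A M] {a b : ℕ} (h : b ≤ a) :
    quotPow A I M a →ₗ[A] quotPow A I M b :=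
  Submodule.mapQ _ _ LinearMap.id (by
    rw [Submodule.comap_id]
    exact Submodule.smul_mono_left (Ideal.pow_le_pow_right (by omega)))

theorem pr_bar (f : M' →ₗ[A] M) {a b : ℕ} (h : b ≤ a) :
    pr I M h ∘ₗ bar I f a = bar I f b ∘ₗ pr I M' h :=
  LinearMap.ext fun z => by
    obtain ⟨m, rfl⟩ := Submodule.Quotient.mk_surjective _ z
    rfl

theorem pr_π {a b : ℕ} (h : b ≤ a) : pr I M h ∘ₗ quotPowπ A I M a = quotPowπ A I M b := rfl

theorem pr_smap {U : (Spec (CommRingCat.of A)).Opens} (y : ∀ n, S (quotPow A I M n) U)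
    (hy : ∀ n, smap (quotPowTrans A I M n) U (y (n + 1)) = y n) {a b : ℕ} (h : b ≤ a) :
    smap (pr I M h) U (y a) = y b := by
  induction h with
  | refl =>
    rw [show pr I M (le_refl b) = (1 : A) • LinearMap.id from LinearMap.ext fun z => by
      obtain ⟨m, rfl⟩ := Submodule.Quotient.mk_surjective _ z
      simp [pr], smap_smul_id, one_smul]
  | @step a h ih =>
    rw [show pr I M (Nat.le.step h) = pr I M h ∘ₗ quotPowTrans A I M a from LinearMap.ext fun z => by
      obtain ⟨m, rfl⟩ := Submodule.Quotient.mk_surjective _ z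
      simp [pr, quotPowTrans, Submodule.mapQ_apply], ← smap_comp]
    exact (congrArg _ (hy a)).trans ih

theorem exact_bar {f : M' →ₗ[A] M} {g : M →ₗ[A] M''} (hg : Function.Surjective g)
    (hfg : LinearMap.range f = LinearMap.ker g) (n : ℕ) :
    LinearMap.range (bar I f n) = LinearMap.ker (bar I g n) := by
  refine le_antisymm ?_ fun z hz => ?_
  · rintro _ ⟨z, rfl⟩
    obtain ⟨m, rfl⟩ := Submodule.Quotient.mk_surjective _ z
    have : g (f m) = 0 := LinearMap.mem_ker.1 (hfg.le (LinearMap.mem_range_self f m))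
    exact (bar_mk I g n (f m)).trans (by rw [this, map_zero])
  · obtain ⟨m, rfl⟩ := Submodule.Quotient.mk_surjective _ z
    have hz' : g m ∈ I ^ (n + 1) • (⊤ : Submodule A M'') := (Submodule.Quotient.mk_eq_zero _).1 hz
    rw [← LinearMap.range_eq_top.2 hg, ← Submodule.map_top g, ← Submodule.map_smul''] at hz'
    obtain ⟨w, hw, hwm⟩ := hz'
    obtain ⟨u, hu⟩ : m - w ∈ LinearMap.range f := hfg ▸ LinearMap.mem_ker.2 (by rw [map_sub, hwm, sub_self])
    refine ⟨quotPowπ A I M' n u, ?_⟩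
    refine (bar_mk I f n u).trans ((Submodule.Quotient.eq _).2 ?_)
    rw [hu, show m - w - m = -w by abel]
    exact Submodule.neg_mem _ hw

/-- Artin–Rees for the kernels of the maps on quotients. -/
theorem exists_kill [IsNoetherianRing A] [Module.Finite A M] (f : M' →ₗ[A] M) (hf : Function.Injective f) :
    ∃ k, ∀ n, ∀ z : quotPow A I M' (k + n), bar I f (k + n) z = 0 →
      pr I M' (Nat.le_add_left n k) z = 0 := by
  obtain ⟨k, hk⟩ := Ideal.exists_pow_inf_eq_pow_smul I (LinearMap.range f)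
  refine ⟨k, fun n z hz => ?_⟩
  obtain ⟨m, rfl⟩ := Submodule.Quotient.mk_surjective _ z
  have hz' : f m ∈ I ^ (k + n + 1) • (⊤ : Submodule A M) ⊓ LinearMap.range f :=
    ⟨(Submodule.Quotient.mk_eq_zero _).1 hz, m, rfl⟩
  rw [hk (k + n + 1) (by omega), show k + n + 1 - k = n + 1 by omega] at hz'
  have h2 := Submodule.smul_mono (le_refl (I ^ (n + 1))) inf_le_right hz'
  rw [← Submodule.map_top, ← Submodule.map_smul''] at h2
  obtain ⟨w, hw, hwm⟩ := h2
  rw [hf hwm] at hw
  exact (Submodule.Quotient.mk_eq_zero _).2 hw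

/-- A section of a module killed by a power of `I` vanishes if it vanishes near `V(I)`. -/
theorem eq_zero_of_res {U V : (Spec (CommRingCat.of A)).Opens} (hV : Formal2.Admissible A I U V)
    {n : ℕ} (s : S (quotPow A I M n) U) (h : res (ModuleCat.of A (quotPow A I M n)) hV.1 s = 0) :
    s = 0 := by
  refine ext_of_generators (ModuleCat.of A (quotPow A I M n)) s 0
    {g | D g ≤ U ∧ (D g ≤ V ∨ ∃ a ∈ I, D g ≤ D a)} (fun _ hg => hg.1) (fun p hp => ?_) fun g hg => ?_
  · by_cases hpV : p ∈ V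
    · obtain ⟨g, hg, hgp⟩ := exists_basic hpV
      exact ⟨g, ⟨hg.trans hV.1, Or.inl hg⟩, hgp⟩
    · obtain ⟨a, ha, hap⟩ := Set.not_subset.1 (fun hI => hpV (hV.2 p hp hI))
      obtain ⟨g, hg, hgp⟩ := exists_basic hp
      exact ⟨g * a, ⟨(PrimeSpectrum.basicOpen_mul_le_left g a).trans hg,
        Or.inr ⟨a, ha, PrimeSpectrum.basicOpen_mul_le_right g a⟩⟩,
        fun hga => (p.isPrime.mem_or_mem hga).elim hgp hap⟩
  · rw [map_zero]
    rcases hg.2 with hgV | ⟨a, ha, hga⟩
    · rw [← res_res _ hV.1 hgV, h, map_zero]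
    · have hkill : ∀ m : quotPow A I M n, a ^ (n + 1) • m = 0 := fun m => by
        obtain ⟨m, rfl⟩ := Submodule.Quotient.mk_surjective _ m
        rw [← Submodule.Quotient.mk_smul, Submodule.Quotient.mk_eq_zero]
        exact Submodule.smul_mem_smul (Ideal.pow_mem_pow ha _) Submodule.mem_top
      refine cancel (r := a ^ (n + 1)) ?_ ((smul_eq_zero_of_killed _ hkill _ _).trans (smul_zero _).symm)
      rw [show D (a ^ (n + 1)) = D a from PrimeSpectrum.basicOpen_pow a (n + 1) n.succ_pos]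
      exact hga

/-- A section vanishing on `D t` is killed by a power of `t`. -/
theorem exists_pow_smul_eq_zero [IsNoetherianRing A] {V : (Spec (CommRingCat.of A)).Opens} {t : A}
    (ht : D t ≤ V) (s : S M V) (h : res (ModuleCat.of A M) ht s = 0) : ∃ k : ℕ, t ^ k • s = 0 := by
  classical
  have key : ∀ g : A, ∀ hg : D g ≤ V, ∃ k : ℕ, t ^ k • res (ModuleCat.of A M) hg s = 0 := fun g hg => by
    haveI := isLocalizedModule_toU (ModuleCat.of A M) g
    obtain ⟨⟨m', ⟨_, l, rfl⟩⟩, hml⟩ := IsLocalizedModule.surj (Submonoid.powers g)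
      (toU (ModuleCat.of A M) (D g)) (res (ModuleCat.of A M) hg s)
    replace hml : g ^ l • res (ModuleCat.of A M) hg s = toU (ModuleCat.of A M) (D g) m' := hml
    have hle1 : D (t * g) ≤ D g := PrimeSpectrum.basicOpen_mul_le_right t g
    have hle2 : D (t * g) ≤ D t := PrimeSpectrum.basicOpen_mul_le_left t g
    have h0 : toU (ModuleCat.of A M) (D (t * g)) m' = 0 := by
      rw [← res_toU _ hle1, ← hml, map_smul, res_res, ← res_res _ ht hle2, h, map_zero, smul_zero]
    haveI := isLocalizedModule_toU (ModuleCat.of A M) (t * g)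
    obtain ⟨⟨_, k, rfl⟩, hk⟩ := (IsLocalizedModule.eq_zero_iff (Submonoid.powers (t * g)) _).1 h0
    replace hk : (t * g) ^ k • m' = 0 := hk
    refine ⟨k, ?_⟩
    have hu := IsLocalizedModule.map_units (toU (ModuleCat.of A M) (D g))
      (⟨g ^ (k + l), k + l, rfl⟩ : Submonoid.powers g)
    rw [Module.End.isUnit_iff] at hu
    refine hu.1 ?_
    rw [Module.algebraMap_end_apply, Module.algebraMap_end_apply, smul_zero, smul_smul,
      show g ^ (k + l) * t ^ k = (t * g) ^ k * g ^ l by ring, mul_smul, hml, ← map_smul, hk, map_zero]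
  choose k hk using key
  obtain ⟨G, hG⟩ := IsCompact.elim_finite_subcover
    (TopologicalSpace.NoetherianSpace.isCompact V.carrier)
    (fun g : {g : A // D g ≤ V} => (D g.1).carrier)
    (fun g => (D g.1).2) fun p hp => by
      obtain ⟨g, hg, hgp⟩ := exists_basic (p := p) hp
      exact Set.mem_iUnion.2 ⟨⟨g, hg⟩, hgp⟩
  refine ⟨G.sup fun g => k g.1 g.2, ?_⟩
  refine ext_of_generators (ModuleCat.of A M) _ _ {g | ∃ g' ∈ G, g'.1 = g}
    (fun g hg => by obtain ⟨g', -, rfl⟩ := hg; exact g'.2)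
    (fun p hp => by
      obtain ⟨g, hg, hgp⟩ := Set.mem_iUnion₂.1 (hG hp)
      exact ⟨g.1, ⟨g, hg, rfl⟩, hgp⟩) fun g hg => ?_
  obtain ⟨g', hg', rfl⟩ := hg
  rw [map_smul, map_zero]
  obtain ⟨d, hd⟩ := Nat.exists_eq_add_of_le (Finset.le_sup (f := fun g : {g : A // D g ≤ V} => k g.1 g.2) hg')
  rw [hd, Nat.add_comm, pow_add, mul_smul, hk, smul_zero]

/-- Up to a power of `t`, a section over `V ⊇ D t` comes from the module. -/
theorem exists_pow_smul_eq_toU [IsNoetherianRing A] {V : (Spec (CommRingCat.of A)).Opens} {t : A}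
    (ht : D t ≤ V) (x : S M V) : ∃ (k : ℕ) (m : M), t ^ k • x = toU (ModuleCat.of A M) V m := by
  haveI := isLocalizedModule_toU (ModuleCat.of A M) t
  obtain ⟨⟨m, ⟨_, l, rfl⟩⟩, hl⟩ := IsLocalizedModule.surj (Submonoid.powers t)
    (toU (ModuleCat.of A M) (D t)) (res (ModuleCat.of A M) ht x)
  replace hl : t ^ l • res (ModuleCat.of A M) ht x = toU (ModuleCat.of A M) (D t) m := hl
  obtain ⟨k, hk⟩ := exists_pow_smul_eq_zero ht (t ^ l • x - toU (ModuleCat.of A M) V m)
    (by rw [map_sub, map_smul, res_toU, hl]; exact sub_self _)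
  refine ⟨k + l, t ^ k • m, ?_⟩
  rw [smul_sub, sub_eq_zero] at hk
  rw [pow_add, mul_smul, hk, map_smul]

/-- Division by `t` on a basic open inside `D t`. -/
theorem exists_smul_eq {g t : A} (h : D g ≤ D t) (s : S M (D g)) : ∃ x : S M (D g), t • x = s := by
  obtain ⟨n, hn⟩ := (PrimeSpectrum.basicOpen_le_basicOpen_iff g t).1 h
  obtain ⟨a, ha⟩ := Ideal.mem_span_singleton.1 hn
  haveI := isLocalizedModule_toU (ModuleCat.of A M) g
  have hu := IsLocalizedModule.map_units (toU (ModuleCat.of A M) (D g))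
    (⟨g ^ n, n, rfl⟩ : Submonoid.powers g)
  rw [Module.End.isUnit_iff] at hu
  obtain ⟨x, hx⟩ := hu.2 s
  refine ⟨a • x, ?_⟩
  rw [smul_smul, ← ha]
  exact hx

end Groth.Agent.Lib.FormalMid
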