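import Groth.Agent.Lib.FormalMid.Levels

/-!
# The middle term of a short exact sequence

If the comparison of sections near `V(I)` with formal sections is bijective for the outer terms of a
short exact sequence, it is bijective for the middle one.  The lifting is done up to powers of
elements `t` covering the neighbourhood, and the pieces are glued using injectivity.
-/

set_option autoImplicit false
set_option linter.style.haveILetI false
universe u

open CategoryTheory AlgebraicGeometry TopologicalSpace Opposite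
open Groth.Agent.H2.SectLim
open Groth.Agent.H2.FormalColimMain (ev ev_res ev_map)
open Groth.Agent.H20.TildeSections (D res toU res_toU res_res ext_of_generators)
open Formal2 (quotPow quotPowπ quotPowTrans Admissible)

namespace Groth.Agent.Lib.FormalMid

variable {A : Type u} [CommRing A] (I : Ideal A) (U : (Spec (CommRingCat.of A)).Opens)
variable {M M' M'' : Type u} [AddCommGroup M] [Module A M] [AddCommGroup M'] [Module A M']
  [AddCommGroup M''] [Module A M'']

/-- Injectivity of the comparison, on sections. -/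
def Inj (M : Type u) [AddCommGroup M] [Module A M] : Prop :=
  ∀ (V : (Spec (CommRingCat.of A)).Opens) (_ : Admissible A I U V) (x : S M V),
    (∀ n, smap (quotPowπ A I M n) V x = 0) →
      ∃ (V' : (Spec (CommRingCat.of A)).Opens) (h : Admissible A I U V' ∧ V' ≤ V),
        res (ModuleCat.of A M) h.2 x = 0

/-- Surjectivity of the comparison, on sections. -/
def Surj (M : Type u) [AddCommGroup M] [Module A M] : Prop :=
  ∀ y : ∀ n, S (quotPow A I M n) U,
    (∀ n, smap (quotPowTrans A I M n) U (y (n + 1)) = y n) →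
      ∃ (V : (Spec (CommRingCat.of A)).Opens) (hV : Admissible A I U V) (x : S M V),
        ∀ n, res (ModuleCat.of A (quotPow A I M n)) hV.1 (y n) = smap (quotPowπ A I M n) V x

variable {I U}

theorem inj_of_bijective (h : Formal2.FormalCohColimBijective A I M 0 U) : Inj I U M :=
  fun V hV x hx => by
    obtain ⟨V', hV', he⟩ := h.1 V hV ((ev M V).symm x) fun n => (ev _ V).injective (by
      rw [ev_map, AddEquiv.apply_symm_apply, hx n, map_zero])
    refine ⟨V', hV', ?_⟩
    have := congrArg (ev M V') he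
    rwa [ev_res, AddEquiv.apply_symm_apply, map_zero] at this

theorem surj_of_bijective (h : Formal2.FormalCohColimBijective A I M 0 U) : Surj I U M :=
  fun y hy => by
    obtain ⟨V, hV, x, hx⟩ := h.2 (fun n => (ev _ U).symm (y n)) fun n => (ev _ U).injective (by
      rw [ev_map, AddEquiv.apply_symm_apply, AddEquiv.apply_symm_apply, hy n])
    refine ⟨V, hV, ev M V x, fun n => ?_⟩
    have := congrArg (ev _ V) (hx n)
    rwa [ev_res, ev_map, AddEquiv.apply_symm_apply] at this

theorem bijective_of (hi : Inj I U M) (hs : Surj I U M) : Formal2.FormalCohColimBijective A I M 0 U := by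
  refine ⟨fun V hV x hx => ?_, fun y hy => ?_⟩
  · obtain ⟨V', hV', he⟩ := hi V hV (ev M V x) fun n => by rw [← ev_map, hx n, map_zero]
    exact ⟨V', hV', (ev M V').injective (by rw [ev_res, he, map_zero])⟩
  · obtain ⟨V, hV, x, hx⟩ := hs (fun n => ev _ U (y n)) fun n => by rw [← ev_map, hy n]
    refine ⟨V, hV, (ev M V).symm x, fun n => (ev _ V).injective ?_⟩
    rw [ev_res, ev_map, AddEquiv.apply_symm_apply, hx n]

variable {f : M' →ₗ[A] M} {g : M →ₗ[A] M''}

theorem inj_middle [IsNoetherianRing A] [Module.Finite A M] (hf : Function.Injective f)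
    (hfg : LinearMap.range f = LinearMap.ker g) (h' : Inj I U M') (h'' : Inj I U M'') : Inj I U M := by
  intro V hV x hx
  obtain ⟨V₁, hV₁, he⟩ := h'' V hV (smap g V x) fun n => by
    rw [smap_comp, ← bar_π I g n, ← smap_comp, hx n, map_zero]
  rw [← smap_res] at he
  obtain ⟨X, hX⟩ := smap_exact hf (LinearMap.exact_iff.2 hfg.symm) V₁ he
  obtain ⟨k, hk⟩ := exists_kill I f hf
  obtain ⟨V₂, hV₂, hX0⟩ := h' V₁ hV₁.1 X fun n => by
    have hd : smap (bar I f (k + n)) V₁ (smap (quotPowπ A I M' (k + n)) V₁ X) = 0 := by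
      rw [smap_comp, bar_π, ← smap_comp, hX, smap_res, hx, map_zero]
    obtain ⟨t, ht⟩ := smap_exact (φ := (LinearMap.ker (bar I f (k + n))).subtype) Subtype.val_injective
      (LinearMap.exact_subtype_ker_map _) V₁ hd
    rw [show quotPowπ A I M' n = pr I M' (Nat.le_add_left n k) ∘ₗ quotPowπ A I M' (k + n) from
      (pr_π I (Nat.le_add_left n k)).symm, ← smap_comp, ← ht, smap_comp,
      show pr I M' (Nat.le_add_left n k) ∘ₗ (LinearMap.ker (bar I f (k + n))).subtype = 0 from
        LinearMap.ext fun z => hk n z.1 z.2, smap_zero]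
  refine ⟨V₂, ⟨hV₂.1, hV₂.2.trans hV₁.2⟩, ?_⟩
  rw [← res_res _ hV₁.2 hV₂.2, ← hX, ← smap_res, hX0, map_zero]

theorem exists_retract (hf : Function.Injective f) [IsNoetherianRing A] [Module.Finite A M]
    (hg : Function.Surjective g) (hfg : LinearMap.range f = LinearMap.ker g)
    (w : ∀ n, S (quotPow A I M n) U) (hw : ∀ n, smap (quotPowTrans A I M n) U (w (n + 1)) = w n)
    (hw0 : ∀ n, smap (bar I g n) U (w n) = 0) :
    ∃ w' : ∀ n, S (quotPow A I M' n) U, (∀ n, smap (quotPowTrans A I M' n) U (w' (n + 1)) = w' n) ∧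
      ∀ n, smap (bar I f n) U (w' n) = w n := by
  classical
  obtain ⟨k, hk⟩ := exists_kill I f hf
  let φ : ∀ n, quotPow A I M' (k + n) →ₗ[A] LinearMap.ker (bar I g (k + n)) := fun n =>
    (bar I f (k + n)).codRestrict _ fun z => (exact_bar I hg hfg (k + n)).le ⟨z, rfl⟩
  have hφ : ∀ n, Function.Surjective (φ n) := fun n z => by
    obtain ⟨u, hu⟩ := (exact_bar I hg hfg (k + n)).ge z.2
    exact ⟨u, Subtype.ext hu⟩
  let q : ∀ n, LinearMap.ker (bar I g (k + n)) →ₗ[A] quotPow A I M' n := fun n =>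
    (LinearMap.ker (φ n)).liftQ (pr I M' (Nat.le_add_left n k))
      (fun z hz => hk n z (congrArg Subtype.val hz)) ∘ₗ
      ((φ n).quotKerEquivOfSurjective (hφ n)).symm.toLinearMap
  have hq : ∀ n z, q n (φ n z) = pr I M' (Nat.le_add_left n k) z := fun n z => by
    simp only [q, LinearMap.comp_apply, LinearEquiv.coe_coe]
    rw [show ((φ n).quotKerEquivOfSurjective (hφ n)).symm (φ n z) = Submodule.Quotient.mk z from
      ((φ n).quotKerEquivOfSurjective (hφ n)).symm_apply_eq.2 rfl]
    rfl
  have hz : ∀ n, ∃ z : S (LinearMap.ker (bar I g (k + n))) U,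
      smap (LinearMap.ker (bar I g (k + n))).subtype U z = w (k + n) := fun n =>
    smap_exact Subtype.val_injective (LinearMap.exact_subtype_ker_map _) U (hw0 (k + n))
  choose z hz using hz
  have hfq : ∀ n, bar I f n ∘ₗ q n =
      pr I M (Nat.le_add_left n k) ∘ₗ (LinearMap.ker (bar I g (k + n))).subtype :=
    fun n => LinearMap.ext fun v => by
      obtain ⟨u, rfl⟩ := hφ n v
      simp only [LinearMap.comp_apply]
      rw [hq]
      exact (LinearMap.congr_fun (pr_bar I f (Nat.le_add_left n k)) u).symm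
  let tk : ∀ n, LinearMap.ker (bar I g (k + (n + 1))) →ₗ[A] LinearMap.ker (bar I g (k + n)) := fun n =>
    (quotPowTrans A I M (k + n)).restrict fun v hv => LinearMap.mem_ker.2 (by
      show (bar I g (k + n) ∘ₗ quotPowTrans A I M (k + n)) v = 0
      rw [bar_tr, LinearMap.comp_apply]
      exact (congrArg _ (LinearMap.mem_ker.1 hv)).trans (map_zero _))
  have hztr : ∀ n, smap (tk n) U (z (n + 1)) = z n := fun n => smap_injective
      (φ := (LinearMap.ker (bar I g (k + n))).subtype) Subtype.val_injective U (by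
    rw [smap_comp, hz, show (LinearMap.ker (bar I g (k + n))).subtype ∘ₗ tk n =
      quotPowTrans A I M (k + n) ∘ₗ (LinearMap.ker (bar I g (k + (n + 1)))).subtype from rfl,
      ← smap_comp, hz]
    exact hw (k + n))
  have hqtr : ∀ n, quotPowTrans A I M' n ∘ₗ q (n + 1) = q n ∘ₗ tk n := fun n => LinearMap.ext fun v => by
    obtain ⟨u, rfl⟩ := hφ (n + 1) v
    have e : tk n (φ (n + 1) u) = φ n (quotPowTrans A I M' (k + n) u) :=
      Subtype.ext (LinearMap.congr_fun (bar_tr I f (k + n)) u).symm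
    simp only [LinearMap.comp_apply]
    rw [hq, e, hq]
    obtain ⟨m, rfl⟩ := Submodule.Quotient.mk_surjective _ u
    simp [pr, quotPowTrans, Submodule.mapQ_apply]
  refine ⟨fun n => smap (q n) U (z n), fun n => ?_, fun n => ?_⟩
  · rw [smap_comp, hqtr, ← smap_comp, hztr]
  · rw [smap_comp, hfq, ← smap_comp, hz, pr_smap I w hw]

theorem local_lift [IsNoetherianRing A] [Module.Finite A M] (hf : Function.Injective f)
    (hg : Function.Surjective g) (hfg : LinearMap.range f = LinearMap.ker g) (h' : Surj I U M')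
    (y : ∀ n, S (quotPow A I M n) U) (hy : ∀ n, smap (quotPowTrans A I M n) U (y (n + 1)) = y n)
    {V : (Spec (CommRingCat.of A)).Opens} (hV : Admissible A I U V) (x'' : S M'' V)
    (hx : ∀ n, res (ModuleCat.of A (quotPow A I M'' n)) hV.1 (smap (bar I g n) U (y n)) =
      smap (quotPowπ A I M'' n) V x'')
    {t : A} (ht : D t ≤ V) :
    ∃ (k : ℕ) (W : (Spec (CommRingCat.of A)).Opens) (hW : Admissible A I U W) (z : S M W),
      ∀ n, t ^ k • res (ModuleCat.of A (quotPow A I M n)) hW.1 (y n) = smap (quotPowπ A I M n) W z := by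
  obtain ⟨k, m'', hk⟩ := exists_pow_smul_eq_toU ht x''
  obtain ⟨m, rfl⟩ := hg m''
  let w : ∀ n, S (quotPow A I M n) U := fun n =>
    t ^ k • y n - toU (ModuleCat.of A (quotPow A I M n)) U (quotPowπ A I M n m)
  obtain ⟨w', hw', hfw⟩ := exists_retract hf hg hfg w (fun n => by
    simp only [w, map_sub, map_smul, hy n]
    rw [smap_toU (quotPowTrans A I M n) U (quotPowπ A I M (n + 1) m)]
    rfl) (fun n => eq_zero_of_res I hV _ (by
    simp only [w, map_sub, map_smul, hx n]
    rw [smap_toU (bar I g n) U (quotPowπ A I M n m), res_toU, ← map_smul, hk, smap_toU]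
    exact sub_self _))
  obtain ⟨W, hW, X, hX⟩ := h' w' hw'
  refine ⟨k, W, hW, smap f W X + toU (ModuleCat.of A M) W m, fun n => ?_⟩
  have hXn : smap (bar I f n) W (res (ModuleCat.of A (quotPow A I M' n)) hW.1 (w' n)) =
      smap (bar I f n) W (smap (quotPowπ A I M' n) W X) := by rw [hX n]
  rw [smap_res, hfw, smap_comp, bar_π, ← smap_comp] at hXn
  rw [map_add, ← hXn, smap_toU]
  simp only [w, map_sub, map_smul]
  exact (sub_add_cancel _ _).symm

theorem admissible_inf {V W : (Spec (CommRingCat.of A)).Opens} (hV : Admissible A I U V)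
    (hW : Admissible A I U W) : Admissible A I U (V ⊓ W) :=
  ⟨inf_le_left.trans hV.1, fun p hp hI => ⟨hV.2 p hp hI, hW.2 p hp hI⟩⟩

theorem admissible_inf_finset {ι : Type*} (G : Finset ι) (V : ι → (Spec (CommRingCat.of A)).Opens)
    (hV : ∀ i ∈ G, Admissible A I U (V i)) : Admissible A I U (U ⊓ G.inf V) := by
  classical
  induction G using Finset.induction with
  | empty => exact ⟨inf_le_left, fun p hp _ => ⟨hp, trivial⟩⟩
  | insert a G ha ih =>
    rw [Finset.inf_insert, inf_left_comm]
    exact admissible_inf (hV a (Finset.mem_insert_self a G))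
      (ih fun i hi => hV i (Finset.mem_insert_of_mem hi))

theorem surj_middle [IsNoetherianRing A] [Module.Finite A M] (hf : Function.Injective f)
    (hg : Function.Surjective g) (hfg : LinearMap.range f = LinearMap.ker g) (h' : Surj I U M')
    (h'' : Surj I U M'') (hi : Inj I U M) : Surj I U M := by
  classical
  intro y hy
  obtain ⟨V, hV, x'', hx⟩ := h'' (fun n => smap (bar I g n) U (y n)) fun n => by
    rw [smap_comp, ← bar_tr, ← smap_comp, hy n]
  obtain ⟨G, hG⟩ := IsCompact.elim_finite_subcover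
    (TopologicalSpace.NoetherianSpace.isCompact V.carrier)
    (fun g : {g : A // D g ≤ V} => (D g.1).carrier)
    (fun g => (D g.1).2) fun p hp => by
      obtain ⟨g, hg, hgp⟩ := exists_basic (p := p) hp
      exact Set.mem_iUnion.2 ⟨⟨g, hg⟩, hgp⟩
  choose k W hW z hz using fun t : {g : A // D g ≤ V} => local_lift hf hg hfg h' y hy hV x'' hx t.2
  have hpair : ∀ a b, ∃ (O : (Spec (CommRingCat.of A)).Opens)
      (hO : Admissible A I U O ∧ O ≤ W a ⊓ W b),
      (b.1 ^ k b) • res (ModuleCat.of A M) (hO.2.trans inf_le_left) (z a) =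
        (a.1 ^ k a) • res (ModuleCat.of A M) (hO.2.trans inf_le_right) (z b) := fun a b => by
    obtain ⟨O, hO, he⟩ := hi (W a ⊓ W b) (admissible_inf (hW a) (hW b))
      ((b.1 ^ k b) • res (ModuleCat.of A M) inf_le_left (z a) -
        (a.1 ^ k a) • res (ModuleCat.of A M) inf_le_right (z b)) fun n => by
      simp only [map_sub, map_smul, smap_res, ← hz, res_res]
      rw [smul_comm, sub_self]
    refine ⟨O, hO, ?_⟩
    rw [← sub_eq_zero]
    simpa only [map_sub, map_smul, res_res] using he
  choose O hO hOeq using hpair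
  let W₀ := V ⊓ ((U ⊓ G.inf W) ⊓ (U ⊓ (G ×ˢ G).inf fun ab => O ab.1 ab.2))
  have hW₀ : Admissible A I U W₀ := admissible_inf hV (admissible_inf
    (admissible_inf_finset G W fun a _ => hW a)
    (admissible_inf_finset _ _ fun ab _ => (hO ab.1 ab.2).1))
  have hle : ∀ {t}, t ∈ G → W₀ ≤ W t := fun ht =>
    inf_le_right.trans (inf_le_left.trans (inf_le_right.trans (Finset.inf_le ht)))
  have hleO : ∀ {a b}, a ∈ G → b ∈ G → W₀ ≤ O a b := fun ha hb =>
    inf_le_right.trans (inf_le_right.trans (inf_le_right.trans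
      (Finset.inf_le (f := fun ab => O ab.1 ab.2) (Finset.mk_mem_product ha hb))))
  let T : Type u := {p : {g : A // D g ≤ V} × A // p.1 ∈ G ∧ D p.2 ≤ W₀ ⊓ D p.1.1}
  let P : T → (Spec (CommRingCat.of A)).Opens := fun i => D i.1.2
  have hP : ∀ i : T, P i ≤ W₀ := fun i => i.2.2.trans inf_le_left
  have hPW : ∀ i : T, P i ≤ W i.1.1 := fun i => (hP i).trans (hle i.2.1)
  have hPk : ∀ i : T, P i ≤ D (i.1.1.1 ^ k i.1.1) := fun i p hp hm =>
    (i.2.2 hp).2 (p.isPrime.mem_of_pow_mem _ hm)
  have hdiv : ∀ i : T, ∃ x : S M (P i),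
      i.1.1.1 ^ k i.1.1 • x = res (ModuleCat.of A M) (hPW i) (z i.1.1) :=
    fun i => exists_smul_eq (hPk i) _
  choose xs hxs using hdiv
  have hcompat : ∀ i j : T, res (ModuleCat.of A M) (inf_le_left : P i ⊓ P j ≤ P i) (xs i) =
      res (ModuleCat.of A M) (inf_le_right : P i ⊓ P j ≤ P j) (xs j) := fun i j => by
    refine cancel (r := i.1.1.1 ^ k i.1.1) (inf_le_left.trans (hPk i))
      (cancel (r := j.1.1.1 ^ k j.1.1) (inf_le_right.trans (hPk j)) ?_)
    rw [smul_comm (j.1.1.1 ^ k j.1.1) (i.1.1.1 ^ k i.1.1) (res (ModuleCat.of A M) _ (xs j)),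
      ← map_smul, ← map_smul _ (j.1.1.1 ^ k j.1.1) (xs j), hxs i, hxs j, res_res, res_res]
    have e := congrArg (res (ModuleCat.of A M)
      ((inf_le_left.trans (hP i)).trans (hleO i.2.1 j.2.1) : P i ⊓ P j ≤ O i.1.1 j.1.1))
      (hOeq i.1.1 j.1.1)
    simpa only [map_smul, res_res] using e
  obtain ⟨X, hX, -⟩ := TopCat.Sheaf.existsUnique_gluing'
    (modulesSpecToSheaf.obj (tilde (R := CommRingCat.of A) (ModuleCat.of A M))) P W₀
    (fun i => homOfLE (hP i)) (fun p hp => by
      obtain ⟨t, ht, htp⟩ := Set.mem_iUnion₂.1 (hG hp.1)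
      obtain ⟨g, hg, hgp⟩ := exists_basic (V := W₀ ⊓ D t.1) (p := p) ⟨hp, htp⟩
      exact Opens.mem_iSup.2 ⟨⟨(t, g), ht, hg⟩, hgp⟩) xs hcompat
  replace hX : ∀ i, res (ModuleCat.of A M) (hP i) X = xs i := hX
  refine ⟨W₀, hW₀, X, fun n => ?_⟩
  refine ext_of_generators (ModuleCat.of A (quotPow A I M n)) _ _
    {g | ∃ i : T, i.1.2 = g} (fun g hg => hg.choose_spec ▸ hP hg.choose)
    (fun p hp => by
      obtain ⟨t, ht, htp⟩ := Set.mem_iUnion₂.1 (hG hp.1)
      obtain ⟨g, hg, hgp⟩ := exists_basic (V := W₀ ⊓ D t.1) (p := p) ⟨hp, htp⟩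
      exact ⟨g, ⟨⟨(t, g), ht, hg⟩, rfl⟩, hgp⟩) fun g hg => ?_
  obtain ⟨i, rfl⟩ := hg
  show res (ModuleCat.of A (quotPow A I M n)) (hP i) _ = res (ModuleCat.of A (quotPow A I M n)) (hP i) _
  refine cancel (hPk i) ?_
  rw [← smap_res (quotPowπ A I M n) (hP i), hX i, ← map_smul (smap (quotPowπ A I M n) (P i)), hxs i,
    smap_res, ← hz, map_smul, res_res, res_res]

end Groth.Agent.Lib.FormalMid
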